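import Groth.Prelude.Def_Formal
import Groth.Prelude.Def_FlatMod2
import Groth.Agent.CohVanish.Sections
import Groth.Agent.QCohLib.Basic

/-!
# Sections of free modules, scalar endomorphisms
-/

set_option autoImplicit false

universe u

open CategoryTheory CategoryTheory.Limits AlgebraicGeometry Opposite TopologicalSpace

namespace Groth.Agent.LocFreeAnn

variable {X : Scheme.{u}} {M N : X.Modules}

theorem app_id (U : X.Opens) (z : Γ(M, U)) : (𝟙 M : M ⟶ M).app U z = z := rfl

theorem app_comp {K : X.Modules} (φ : M ⟶ N) (ψ : N ⟶ K) (U : X.Opens) (z : Γ(M, U)) :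
    (φ ≫ ψ).app U z = ψ.app U (φ.app U z) := rfl

theorem app_smul' (φ : M ⟶ N) (U : X.Opens) (r : Γ(X, U)) (z : Γ(M, U)) :
    φ.app U (r • z) = r • φ.app U z :=
  Scheme.Modules.Hom.app_smul φ r z

theorem app_sum {ι : Type*} (s : Finset ι) (φ : ι → (M ⟶ N)) (U : X.Opens) (z : Γ(M, U)) :
    (∑ i ∈ s, φ i).app U z = ∑ i ∈ s, (φ i).app U z := by
  classical
  induction s using Finset.induction_on with
  | empty => rw [Finset.sum_empty, Finset.sum_empty]; rfl
  | insert a s ha ih =>
    rw [Finset.sum_insert ha, Finset.sum_insert ha, ← ih]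
    rfl

theorem one_res (U : X.Opens) :
    X.presheaf.map (homOfLE (le_top (a := U))).op (1 : Γ(X, ⊤)) = 1 := map_one _

/-- The basis sections of a free module. -/
noncomputable def gen (X : Scheme.{u}) (n : ℕ) (i : Fin n) : Γ(FlatMod.freeMod X n, ⊤) :=
  (Sigma.ι (fun _ : Fin n => Coh.structureModule X) i).app ⊤ (1 : Γ(X, ⊤))

/-- The coordinates. -/
noncomputable def proj (X : Scheme.{u}) (n : ℕ) (i : Fin n) :
    FlatMod.freeMod X n ⟶ Coh.structureModule X :=
  Sigma.desc fun j => if j = i then 𝟙 _ else 0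

theorem proj_total (n : ℕ) :
    ∑ i, proj X n i ≫ Sigma.ι (fun _ : Fin n => Coh.structureModule X) i = 𝟙 _ := by
  classical
  refine Sigma.hom_ext _ _ fun j => ?_
  rw [Preadditive.comp_sum, Category.comp_id, Finset.sum_eq_single j]
  · rw [proj, Sigma.ι_desc_assoc, if_pos rfl, Category.id_comp]
  · intro i _ hi
    rw [proj, Sigma.ι_desc_assoc, if_neg (Ne.symm hi), zero_comp]
  · exact fun h => absurd (Finset.mem_univ j) h

/-- A coordinate of a section, as a function. -/
noncomputable def coord {n : ℕ} (U : X.Opens) (z : Γ(FlatMod.freeMod X n, U)) (i : Fin n) : Γ(X, U) :=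
  (proj X n i).app U z

theorem app_of_unit (ψ : Coh.structureModule X ⟶ M) (U : X.Opens) (r : Γ(X, U)) :
    ψ.app U r = r • M.presheaf.map (homOfLE (le_top (a := U))).op (ψ.app ⊤ (1 : Γ(X, ⊤))) := by
  refine (congrArg (ψ.app U) ?_).trans ((app_smul' ψ U r _).trans
    (congrArg (r • ·) (QCohLib.app_map ψ le_top (1 : Γ(X, ⊤)))))
  show r = r * X.presheaf.map (homOfLE (le_top (a := U))).op (1 : Γ(X, ⊤))
  rw [one_res, mul_one]

theorem free_app_eq {n : ℕ} (φ : FlatMod.freeMod X n ⟶ M) (U : X.Opens)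
    (z : Γ(FlatMod.freeMod X n, U)) :
    φ.app U z = ∑ i, coord U z i •
      M.presheaf.map (homOfLE (le_top (a := U))).op (φ.app ⊤ (gen X n i)) := by
  have h : φ.app U z = ∑ i, (proj X n i ≫
      Sigma.ι (fun _ : Fin n => Coh.structureModule X) i ≫ φ).app U z := by
    rw [← app_sum]
    simp only [← Category.assoc, ← Preadditive.sum_comp, proj_total, Category.id_comp]
  refine h.trans (Finset.sum_congr rfl fun i _ => ?_)
  exact (app_comp (proj X n i) (Sigma.ι (fun _ : Fin n => Coh.structureModule X) i ≫ φ) U z).trans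
    (app_of_unit _ U (coord U z i))

theorem coord_smul {n : ℕ} (U : X.Opens) (c : Γ(X, U)) (z : Γ(FlatMod.freeMod X n, U)) (i : Fin n) :
    coord U (c • z) i = c * coord U z i :=
  app_smul' (proj X n i) U c z

theorem coord_sum {n : ℕ} {ι : Type*} (s : Finset ι) (U : X.Opens)
    (z : ι → Γ(FlatMod.freeMod X n, U)) (i : Fin n) :
    coord U (∑ j ∈ s, z j) i = ∑ j ∈ s, coord U (z j) i :=
  map_sum ((proj X n i).app U).hom z s

theorem coord_gen (n : ℕ) (U : X.Opens) (i j : Fin n) :
    coord U ((FlatMod.freeMod X n).presheaf.map (homOfLE (le_top (a := U))).op (gen X n j)) i =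
      if j = i then 1 else 0 := by
  refine (QCohLib.app_map (proj X n i) le_top (gen X n j)).trans ?_
  have h : (proj X n i).app ⊤ (gen X n j) =
      (Sigma.ι (fun _ : Fin n => Coh.structureModule X) j ≫ proj X n i).app ⊤ (1 : Γ(X, ⊤)) :=
    rfl
  rw [h, proj, Sigma.ι_desc]
  split_ifs with hij
  · exact one_res U
  · exact map_zero _

/-- Coordinates are bijective. -/
theorem coord_bijective (n : ℕ) (U : X.Opens) :
    Function.Bijective (coord (X := X) (n := n) U) := by
  classical
  refine ⟨fun z w h => ?_, fun c => ?_⟩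
  · rw [← app_id U z, ← app_id U w, free_app_eq, free_app_eq, h]
  · refine ⟨∑ j, c j • (FlatMod.freeMod X n).presheaf.map (homOfLE (le_top (a := U))).op (gen X n j),
      funext fun i => ?_⟩
    rw [coord_sum, Finset.sum_eq_single i]
    · rw [coord_smul, coord_gen, if_pos rfl, mul_one]
    · intro j _ hj
      rw [coord_smul, coord_gen, if_neg hj, mul_zero]
    · exact fun h => absurd (Finset.mem_univ i) h

theorem free_app_bijective_iff {n : ℕ} (φ : FlatMod.freeMod X n ⟶ M) (U : X.Opens) :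
    Function.Bijective (φ.app U) ↔ Function.Bijective fun c : Fin n → Γ(X, U) =>
      ∑ i, c i • M.presheaf.map (homOfLE (le_top (a := U))).op (φ.app ⊤ (gen X n i)) := by
  have h : (φ.app U : Γ(FlatMod.freeMod X n, U) → Γ(M, U)) =
      (fun c : Fin n → Γ(X, U) =>
        ∑ i, c i • M.presheaf.map (homOfLE (le_top (a := U))).op (φ.app ⊤ (gen X n i))) ∘
        coord U := funext fun z => free_app_eq φ U z
  rw [h]
  exact Function.Bijective.of_comp_iff _ (coord_bijective n U)

/-- A family of sections that is a basis on every open below `W`. -/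
theorem exists_basis {W : X.Opens} {n : ℕ} (e : M.restrict W.ι ≅ FlatMod.freeMod (↑W) n) :
    ∃ b : Fin n → Γ(M, W), ∀ (U : X.Opens) (h : U ≤ W), Function.Bijective fun c : Fin n → Γ(X, U) =>
      ∑ i, c i • M.presheaf.map (homOfLE h).op (b i) := by
  refine ⟨fun i => M.presheaf.map (homOfLE W.ι_image_top.ge).op (e.inv.app ⊤ (gen W n i)),
    fun U h => ?_⟩
  obtain ⟨V, rfl⟩ : ∃ V : W.toScheme.Opens, W.ι ''ᵁ V = U :=
    ⟨W.ι ⁻¹ᵁ U, by rw [Scheme.Hom.image_preimage_eq_opensRange_inf, Scheme.Opens.opensRange_ι]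
                   exact inf_eq_right.mpr h⟩
  have hb : Function.Bijective (e.inv.app V) := by
    refine ⟨fun a b hab => ?_, fun m => ⟨e.hom.app V m, ?_⟩⟩
    · rw [← app_id V a, ← app_id V b, ← e.inv_hom_id, app_comp, app_comp, hab]
    · rw [← app_comp, e.hom_inv_id]; rfl
  have key := (free_app_bijective_iff e.inv V).1 hb
  let σ := (M.restrictAppIso W.ι V).hom
  let ρ := (W.ι.appIso V).hom
  have hσ : Function.Bijective σ := ConcreteCategory.bijective_of_isIso σ
  have hρ : Function.Bijective ρ := ConcreteCategory.bijective_of_isIso ρ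
  have hsm : ∀ (c : Γ(X, W.ι ''ᵁ V)) (x : Γ(M.restrict W.ι, V)), σ (ρ c • x) = c • σ x := by
    intro c x
    refine (Scheme.Modules.smul_restrictAppIso_hom_apply W.ι M V (ρ c) x).trans ?_
    exact congrArg (fun r : Γ(X, W.ι ''ᵁ V) => r • σ x) ((W.ι.appIso V).hom_inv_id_apply c)
  have hbij := hσ.comp (key.comp (Function.Bijective.piMap fun _ : Fin n => hρ))
  convert hbij using 2 with c
  refine Eq.trans ?_ (map_sum σ.hom _ Finset.univ).symm
  refine Finset.sum_congr rfl fun i _ => ?_
  refine Eq.trans ?_ (hsm (c i) _).symm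
  exact congrArg (fun y : Γ(M, W.ι ''ᵁ V) => c i • y) (QCohLib.map_map M h W.ι_image_top.ge _)

/-- Scalar endomorphisms commute with morphisms. -/
theorem smulModΓ_comp (φ : M ⟶ N) (r : Coh.Γtop X) :
    Formal.smulModΓ M r ≫ φ = φ ≫ Formal.smulModΓ N r := by
  refine Scheme.Modules.hom_ext _ _ fun U => ?_
  ext m
  exact app_smul' φ U _ m

/-- Restriction of a global function. -/
noncomputable def res0 (r : Coh.Γtop X) (U : X.Opens) : Γ(X, U) := Coh.resTop X (op U) r

theorem res0_eq (r : Γ(X, ⊤)) (U : X.Opens) :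
    res0 r U = X.presheaf.map (homOfLE (le_top (a := U))).op r := rfl

theorem res0_mul (r s : Coh.Γtop X) (U : X.Opens) : res0 (r * s) U = res0 r U * res0 s U :=
  map_mul (Coh.resTop X (op U)) r s

theorem res0_pow (r : Γ(X, ⊤)) (k : ℕ) (U : X.Opens) :
    res0 (r ^ k : Γ(X, ⊤)) U = (res0 r U) ^ k := by
  rw [res0_eq, res0_eq, map_pow]

theorem smulModΓ_app (r : Coh.Γtop X) (U : X.Opens) (m : Γ(M, U)) :
    (Formal.smulModΓ M r).app U m = res0 r U • m := rfl

theorem smulModΓ_mul (r s : Coh.Γtop X) :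
    Formal.smulModΓ M (r * s) = Formal.smulModΓ M s ≫ Formal.smulModΓ M r := by
  refine Scheme.Modules.hom_ext _ _ fun U => AddCommGrpCat.ext fun m => ?_
  refine (smulModΓ_app (r * s) U m).trans ?_
  rw [res0_mul, mul_smul]
  rfl

theorem toSheaf_smulModΓ (r : Coh.Γtop X) :
    (SheafOfModules.toSheaf X.ringCatSheaf).map (Formal.smulModΓ M r) = Coh.smulAb M r := rfl

/-- `H^p` of a morphism of modules. -/
noncomputable def hMap (φ : M ⟶ N) (p : ℕ) (x : Coh.HH X M p) : Coh.HH X N p :=
  Sheaf.H.map ((SheafOfModules.toSheaf X.ringCatSheaf).map φ) p x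

theorem hMap_comp {K : X.Modules} (φ : M ⟶ N) (ψ : N ⟶ K) (p : ℕ) (x : Coh.HH X M p) :
    hMap (φ ≫ ψ) p x = hMap ψ p (hMap φ p x) := by
  exact (congrArg (fun f => Sheaf.H.map f p x)
    (Functor.map_comp (SheafOfModules.toSheaf X.ringCatSheaf) φ ψ)).trans
    (Sheaf.H.map_comp_apply _ _ _)

theorem hMap_sum {ι : Type*} (s : Finset ι) (φ : ι → (M ⟶ N)) (p : ℕ) (x : Coh.HH X M p) :
    hMap (∑ i ∈ s, φ i) p x = ∑ i ∈ s, hMap (φ i) p x := by
  classical
  induction s using Finset.induction_on with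
  | empty =>
    rw [Finset.sum_empty, Finset.sum_empty]
    refine (congrArg (fun f => Sheaf.H.map f p x)
      (Functor.map_zero (SheafOfModules.toSheaf X.ringCatSheaf) M N)).trans ?_
    change ((Sheaf.functorH _ p).map (0 : Coh.toAb M ⟶ Coh.toAb N)).hom x = 0
    rw [Functor.map_zero]
    rfl
  | insert a s ha ih =>
    rw [Finset.sum_insert ha, Finset.sum_insert ha, ← ih]
    exact (congrArg (fun f => Sheaf.H.map f p x)
      (Functor.map_add (SheafOfModules.toSheaf X.ringCatSheaf))).trans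
      (Sheaf.H.map_add_apply _ _ _)

theorem smul_eq_hMap (r : Coh.Γtop X) (p : ℕ) (x : Coh.HH X M p) :
    r • x = hMap (Formal.smulModΓ M r) p x := rfl

theorem hMap_smul (φ : M ⟶ N) (r : Coh.Γtop X) (p : ℕ) (x : Coh.HH X M p) :
    hMap φ p (r • x) = r • hMap φ p x := by
  rw [smul_eq_hMap, smul_eq_hMap, ← hMap_comp, ← hMap_comp, smulModΓ_comp]

end Groth.Agent.LocFreeAnn
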