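import Groth.Agent.LocFreeAnn.Free
import Groth.Agent.QCohLib.Criterion
import Groth.Agent.QCOverAlg.Basic

/-!
# A power of a function factors a locally free module through free modules

If `F` is finite locally free on a quasi-compact and quasi-separated scheme and is free on the
non-vanishing locus of a global function `h`, some power of `h` on `F` factors through a finite free
module. Consequently it kills `H^p(F)` up to the annihilator of `H^p(O)`.
-/

set_option autoImplicit false
set_option linter.style.haveILetI false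

universe u

open CategoryTheory CategoryTheory.Limits AlgebraicGeometry Opposite TopologicalSpace

namespace Groth.Agent.LocFreeAnn

variable {X : Scheme.{u}} {F : X.Modules}

theorem isQuasicoherent_freeMod (X : Scheme.{u}) (n : ℕ) :
    (FlatMod.freeMod X n).IsQuasicoherent := by
  haveI := QCOverAlg.isQuasicoherent_sigma (I := ULift.{u} (Fin n))
    (fun _ => Coh.structureModule X) fun _ => CohVanish.isQuasicoherent_oMod X
  exact QCohLib.isQuasicoherent_of_iso
    (Sigma.whiskerEquiv (f := fun _ : ULift.{u} (Fin n) => Coh.structureModule X)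
      (g := fun _ : Fin n => Coh.structureModule X) Equiv.ulift fun _ => Iso.refl _)

theorem res0_res {U V : X.Opens} (hUV : U ≤ V) (r : Γ(X, ⊤)) :
    X.presheaf.map (homOfLE hUV).op (res0 r V) = res0 r U := by
  rw [res0_eq, res0_eq, QCohLib.ring_map_map]

theorem pow_smul_mono {U : X.Opens} {M : X.Modules} (r : Γ(X, U)) {a b : ℕ} (hab : a ≤ b)
    (z : Γ(M, U)) : r ^ b • z = r ^ (b - a) • r ^ a • z := by
  rw [← mul_smul, ← pow_add, Nat.sub_add_cancel hab]

/-- Bounds on the kernel and the cokernel of a map from a free module over a trivialising affine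
open, uniform in the smaller opens. -/
theorem exists_bound [F.IsQuasicoherent] {n m : ℕ} (β : FlatMod.freeMod X n ⟶ F) (h : Γ(X, ⊤))
    (hβ : ∀ U, U ≤ X.basicOpen h → Function.Bijective (β.app U))
    {V : X.Opens} (hV : IsAffineOpen V) (b : Fin m → Γ(F, V))
    (hb : ∀ (U : X.Opens) (hU : U ≤ V), Function.Bijective fun c : Fin m → Γ(X, U) =>
      ∑ i, c i • F.presheaf.map (homOfLE hU).op (b i)) :
    ∃ K : ℕ, ∀ U ≤ V, (∀ f : Γ(F, U), ∃ z, β.app U z = res0 h U ^ K • f) ∧
      ∀ z, β.app U z = 0 → res0 h U ^ K • z = 0 := by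
  classical
  haveI := isQuasicoherent_freeMod X n
  let G := FlatMod.freeMod X n
  let D := V ⊓ X.basicOpen h
  have hDV : D ≤ V := inf_le_left
  have hD : D = X.basicOpen (res0 h V) := by
    rw [res0_eq, Scheme.basicOpen_res]
  have hβD := hβ D inf_le_right
  have h1 : ∀ j, ∃ (k : ℕ) (y : Γ(G, V)), β.app V y = res0 h V ^ k • b j := by
    intro j
    obtain ⟨z, hz⟩ := hβD.2 (F.presheaf.map (homOfLE hDV).op (b j))
    obtain ⟨k, y, hy⟩ := QCohLib.exists_res_eq_pow_smul hV (res0 h V) D hDV hD z
    obtain ⟨k', hk'⟩ := QCohLib.exists_pow_smul_eq_zero hV (res0 h V) D hDV hD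
      (β.app V y - res0 h V ^ k • b j) (by
        rw [map_sub, Scheme.Modules.map_smul, ← QCohLib.app_map, hy, app_smul', hz, map_pow,
          sub_self])
    refine ⟨k' + k, res0 h V ^ k' • y, ?_⟩
    rw [app_smul', pow_add, mul_smul, ← sub_eq_zero, ← smul_sub, hk']
  choose k y hy using h1
  let K := Finset.univ.sup k
  let Y : Fin m → Γ(G, V) := fun j => res0 h V ^ (K - k j) • y j
  have hY : ∀ j, β.app V (Y j) = res0 h V ^ K • b j := fun j => by
    rw [app_smul', hy, ← pow_smul_mono _ (Finset.le_sup (Finset.mem_univ j))]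
  let g : Fin n → Γ(G, V) := fun i => G.presheaf.map (homOfLE le_top).op (gen X n i)
  choose t ht using fun i => (hb V le_rfl).2 (β.app V (g i))
  have hd : ∀ i, ∃ k', res0 h V ^ k' • (res0 h V ^ K • g i - ∑ j, t i j • Y j) = 0 := by
    intro i
    refine QCohLib.exists_pow_smul_eq_zero hV (res0 h V) D hDV hD _ (hβD.1 ?_)
    rw [QCohLib.app_map, map_sub, app_smul', map_sum, ← ht i, Finset.smul_sum]
    simp only [app_smul', hY, QCohLib.map_self, smul_smul, mul_comm]
    rw [sub_self, map_zero, map_zero]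
  choose k' hk' using hd
  let K' := Finset.univ.sup k'
  refine ⟨K' + K, fun U hU => ⟨fun f => ?_, fun z hz => ?_⟩⟩
  · obtain ⟨c, hc⟩ := (hb U hU).2 f
    refine ⟨res0 h U ^ K' • ∑ j, c j • G.presheaf.map (homOfLE hU).op (Y j), ?_⟩
    rw [app_smul', map_sum, pow_add, mul_smul, ← hc, Finset.smul_sum (r := res0 h U ^ K)]
    refine congrArg _ (Finset.sum_congr rfl fun j _ => ?_)
    rw [app_smul', QCohLib.app_map, hY, Scheme.Modules.map_smul, map_pow, res0_res, smul_comm]
  · have hg : ∀ i, res0 h U ^ (K' + K) • G.presheaf.map (homOfLE (le_top (a := U))).op (gen X n i) =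
        res0 h U ^ K' • ∑ j, X.presheaf.map (homOfLE hU).op (t i j) •
          G.presheaf.map (homOfLE hU).op (Y j) := by
      intro i
      have h0 : res0 h V ^ K' • res0 h V ^ K • g i = res0 h V ^ K' • ∑ j, t i j • Y j := by
        rw [← sub_eq_zero, ← smul_sub, pow_smul_mono _ (Finset.le_sup (Finset.mem_univ i)), hk',
          smul_zero]
      have h2 := congrArg (G.presheaf.map (homOfLE hU).op) h0
      simp only [Scheme.Modules.map_smul, map_pow, res0_res, map_sum] at h2
      rw [pow_add, mul_smul]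
      rw [QCohLib.map_map] at h2
      exact h2
    have hc : ∀ j, (∑ i, coord U z i * X.presheaf.map (homOfLE hU).op (t i j)) = 0 := by
      refine congrFun ((hb U hU).1 (a₁ := fun j => ∑ i,
        coord U z i * X.presheaf.map (homOfLE hU).op (t i j)) (a₂ := fun _ => 0) ?_)
      simp only [zero_smul, Finset.sum_const_zero, Finset.sum_smul]
      rw [Finset.sum_comm]
      refine Eq.trans ?_ ((free_app_eq β U z).symm.trans hz)
      refine Finset.sum_congr rfl fun i _ => ?_
      have e : F.presheaf.map (homOfLE (le_top (a := U))).op (β.app ⊤ (gen X n i)) =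
          F.presheaf.map (homOfLE hU).op (β.app V (g i)) := by
        rw [QCohLib.app_map, QCohLib.map_map]
      rw [e, ← ht i, map_sum, Finset.smul_sum]
      refine Finset.sum_congr rfl fun j _ => ?_
      rw [Scheme.Modules.map_smul, QCohLib.map_self, mul_smul]
    have hz' : z = ∑ i, coord U z i • G.presheaf.map (homOfLE (le_top (a := U))).op (gen X n i) :=
      free_app_eq (𝟙 G) U z
    rw [hz', Finset.smul_sum]
    simp only [smul_comm (res0 h U ^ (K' + K)) (coord U z _), hg]
    simp only [Finset.smul_sum, smul_smul]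
    rw [Finset.sum_comm]
    refine Finset.sum_eq_zero fun j _ => ?_
    rw [← Finset.sum_smul]
    have : ∀ i, coord U z i * (res0 h U ^ K' * X.presheaf.map (homOfLE hU).op (t i j)) =
        res0 h U ^ K' * (coord U z i * X.presheaf.map (homOfLE hU).op (t i j)) :=
      fun i => mul_left_comm _ _ _
    simp only [this, ← Finset.mul_sum, hc, mul_zero, zero_smul]

/-- A power of `h` factors through a free module. -/
theorem exists_factor [CompactSpace X] [QuasiSeparatedSpace X] [F.IsQuasicoherent]
    (hF : FlatMod.IsFinLocFree F) (h : Γ(X, ⊤)) {n : ℕ}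
    (e : F.restrict (X.basicOpen h).ι ≅ FlatMod.freeMod (↑(X.basicOpen h)) n) :
    ∃ (L : ℕ) (α : Fin n → (F ⟶ Coh.structureModule X)) (β : Fin n → (Coh.structureModule X ⟶ F)),
      Formal.smulModΓ F (h ^ L : Γ(X, ⊤)) = ∑ i, α i ≫ β i := by
  classical
  obtain ⟨b, hb⟩ := exists_basis e
  let W := X.basicOpen h
  choose k s hs using fun i => QCohLib.exists_res_eq_pow_smul_of_isCompact (M := F) (U := ⊤)
    isCompact_univ isQuasiSeparated_univ h W le_top rfl (b i)
  let β : FlatMod.freeMod X n ⟶ F := Sigma.desc fun i => CohVanish.homOfSection F (s i)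
  have hgen : ∀ i, β.app ⊤ (gen X n i) = s i := by
    intro i
    refine (congrArg (fun φ : Coh.structureModule X ⟶ F => φ.app ⊤ (1 : Γ(X, ⊤)))
      (Sigma.ι_desc (fun i => CohVanish.homOfSection F (s i)) i)).trans ?_
    exact (CohVanish.homOfSection_app F (s i) ⊤ 1).trans
      ((one_smul _ _).trans (QCohLib.map_self F _ _))
  have hβ : ∀ U, U ≤ W → Function.Bijective (β.app U) := by
    intro U hU
    have hu : ∀ i, IsUnit (res0 h U ^ k i) := fun i => by
      refine IsUnit.pow _ ?_
      have := RingHom.isUnit_map (X.presheaf.map (homOfLE hU).op).hom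
        (X.toRingedSpace.isUnit_res_basicOpen h)
      rw [← res0_res hU]
      exact this
    refine (free_app_bijective_iff β U).2 ?_
    have hbij := (hb U hU).comp (Function.Bijective.piMap fun i =>
      (hu i).unit.mulRight.bijective)
    convert hbij using 2 with c
    refine Finset.sum_congr rfl fun i _ => ?_
    rw [hgen, ← QCohLib.map_map F hU le_top, hs, Scheme.Modules.map_smul, map_pow,
      QCohLib.ring_map_map, ← mul_smul]
    rfl
  have hcov : ∀ x : X, ∃ V : X.Opens, IsAffineOpen V ∧ x ∈ V ∧ ∃ K : ℕ, ∀ U ≤ V,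
      (∀ f : Γ(F, U), ∃ z, β.app U z = res0 h U ^ K • f) ∧
      ∀ z, β.app U z = 0 → res0 h U ^ K • z = 0 := by
    intro x
    obtain ⟨O, m, hxO, ⟨eO⟩⟩ := hF x
    obtain ⟨bO, hbO⟩ := exists_basis eO
    obtain ⟨V, hV, hxV, hVO⟩ := exists_isAffineOpen_mem_and_subset (x := x) (U := O) hxO
    refine ⟨V, hV, hxV, exists_bound β h hβ hV (fun i => F.presheaf.map (homOfLE hVO).op (bO i))
      fun U hU => ?_⟩
    convert hbO U (hU.trans hVO) using 2 with c
    exact Finset.sum_congr rfl fun i _ => congrArg _ (QCohLib.map_map F hU hVO (bO i))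
  choose V hV hxV K hK using hcov
  obtain ⟨S, hS⟩ := (isCompact_univ (X := X)).elim_finite_subcover (fun x => (V x : Set X))
    (fun x => (V x).2) fun x _ => Set.mem_iUnion.2 ⟨x, hxV x⟩
  let L := S.sup K
  have hloc : ∀ {M : X.Modules} (U : X.Opens) (z : Γ(M, U)),
      (∀ x ∈ S, M.presheaf.map (homOfLE (inf_le_left : U ⊓ V x ≤ U)).op z = 0) → z = 0 := by
    intro M U z hz
    refine TopCat.Sheaf.eq_of_locally_eq' ⟨M.presheaf, M.isSheaf⟩ (fun x : S => U ⊓ V x.1) U
      (fun x => homOfLE inf_le_left) (fun p hp => ?_) _ _ fun x => ?_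
    · obtain ⟨x, hx, hpx⟩ := Set.mem_iUnion₂.1 (hS (Set.mem_univ p))
      exact Opens.mem_iSup.2 ⟨⟨x, hx⟩, hp, hpx⟩
    · exact (hz x.1 x.2).trans (map_zero _).symm
  let a : Coh.Γtop X := (h ^ L : Γ(X, ⊤))
  have hpow : ∀ {M : X.Modules} (U : X.Opens) (x : X) (_ : x ∈ S) (z : Γ(M, U)),
      res0 a U • z = res0 h U ^ (L - K x) • res0 h U ^ K x • z := fun U x hx z => by
    rw [show res0 a U = _ from res0_pow h L U, pow_smul_mono _ (Finset.le_sup hx)]
  have smz : ∀ {M : X.Modules} (U : X.Opens) (r : Γ(X, U)), r • (0 : Γ(M, U)) = 0 :=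
    fun U r => smul_zero r
  have hπ : Formal.smulModΓ F a ≫ cokernel.π β = 0 := by
    refine Scheme.Modules.hom_ext _ _ fun U => AddCommGrpCat.ext fun f => ?_
    refine hloc U _ fun x hx => ?_
    obtain ⟨z, hz⟩ := (hK x _ inf_le_right).1 (F.presheaf.map (homOfLE inf_le_left).op f)
    rw [← QCohLib.app_map, app_comp, smulModΓ_app, hpow _ x hx, ← hz, app_smul', ← app_comp,
      cokernel.condition]
    exact smz _ _
  have hι : kernel.ι β ≫ Formal.smulModΓ (FlatMod.freeMod X n) a = 0 := by
    refine Scheme.Modules.hom_ext _ _ fun U => AddCommGrpCat.ext fun c => ?_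
    refine hloc U _ fun x hx => ?_
    rw [← QCohLib.app_map, app_comp, smulModΓ_app, hpow _ x hx, (hK x _ inf_le_right).2 _ ?_]
    · exact smul_zero _
    · rw [← app_comp, kernel.condition]; rfl
  let γ : F ⟶ Abelian.image β := kernel.lift _ _ hπ
  let δ : Abelian.coimage β ⟶ FlatMod.freeMod X n := cokernel.desc _ _ hι
  let c := Abelian.coimageImageComparison β
  have hδ : δ ≫ β = c ≫ Abelian.image.ι β ≫ Formal.smulModΓ F a := by
    rw [← cancel_epi (Abelian.coimage.π β), ← Category.assoc]
    erw [cokernel.π_desc]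
    rw [← Category.assoc, ← Category.assoc, Category.assoc (Abelian.coimage.π β),
      Abelian.coimage_image_factorisation]
    exact smulModΓ_comp β a
  let α : F ⟶ FlatMod.freeMod X n := γ ≫ inv c ≫ δ
  have hα : α ≫ β = Formal.smulModΓ F (h ^ (L + L) : Γ(X, ⊤)) := by
    have e2 : (h ^ (L + L) : Γ(X, ⊤)) = a * a := pow_add h L L
    rw [e2, show α ≫ β = γ ≫ inv c ≫ δ ≫ β by simp only [α, Category.assoc], hδ,
      IsIso.inv_hom_id_assoc, ← Category.assoc]
    erw [kernel.lift_ι]
    exact (smulModΓ_mul (M := F) a a).symm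
  refine ⟨L + L, fun i => α ≫ proj X n i,
    fun i => Sigma.ι (fun _ : Fin n => Coh.structureModule X) i ≫ β, ?_⟩
  rw [← hα]
  conv_lhs => rw [← Category.id_comp β, ← proj_total n, Preadditive.sum_comp, Preadditive.comp_sum]
  simp only [Category.assoc]

/-- Annihilators of `H^p(O)` times a power of `h` annihilate `H^p(F)`. -/
theorem exists_pow_mul_smul_eq_zero [CompactSpace X] [QuasiSeparatedSpace X] [F.IsQuasicoherent]
    (hF : FlatMod.IsFinLocFree F) (h : Γ(X, ⊤)) {n : ℕ}
    (e : F.restrict (X.basicOpen h).ι ≅ FlatMod.freeMod (↑(X.basicOpen h)) n) (p : ℕ) :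
    ∃ L : ℕ, ∀ a : Coh.Γtop X, a = (h ^ L : Γ(X, ⊤)) →
      ∀ r : Coh.Γtop X, (∀ x : Coh.HH X (Coh.structureModule X) p, r • x = 0) →
      ∀ x : Coh.HH X F p, r • a • x = 0 := by
  obtain ⟨L, α, β, hαβ⟩ := exists_factor hF h e
  refine ⟨L, fun a ha r hr x => ?_⟩
  rw [smul_eq_hMap a p x,
    show Formal.smulModΓ F a = _ from (congrArg (Formal.smulModΓ F) ha).trans hαβ, hMap_sum, Finset.smul_sum]
  refine Finset.sum_eq_zero fun i _ => ?_
  rw [hMap_comp, ← hMap_smul, hr]
  exact map_zero _

end Groth.Agent.LocFreeAnn
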